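import Groth.Agent.Et18.ExtZero
import Groth.Agent.Et18.ExtZeroBaseChange

/-!
# Restriction commutes with inverse image, and the extension by zero sees it

For a cartesian square `j' : V' → Y`, `f' : V' → V` over `j : V → X` étale and `f : Y → X` the base change
transformation `f'^* j^{-1} → j'^{-1} f^*` is an isomorphism, and it is the adjoint of `j'_! f'^* ≅ f^* j_!`.
-/

universe v₁ u₁ v₂ u₂ v₃ u₃ v₄ u₄ u

open CategoryTheory CategoryTheory.Limits AlgebraicGeometry Opposite

set_option linter.all false
set_option backward.isDefEq.respectTransparency.types false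
set_option backward.isDefEq.respectTransparency false
set_option backward.defeqAttrib.useBackward true
set_option synthInstance.maxHeartbeats 400000
set_option maxHeartbeats 1000000

namespace Groth.Agent.Et18.AcyclicN

section Mate

variable {A₁ : Type u₁} [Category.{v₁} A₁] {A₂ : Type u₂} [Category.{v₂} A₂]
  {A₃ : Type u₃} [Category.{v₃} A₃] {A₄ : Type u₄} [Category.{v₄} A₄]
  {P : A₁ ⥤ A₂} {S : A₂ ⥤ A₁} (adP : P ⊣ S) {P' : A₃ ⥤ A₄} {S' : A₄ ⥤ A₃} (adP' : P' ⊣ S')
  {G : A₁ ⥤ A₃} {H : A₂ ⥤ A₄} (σ : S ⋙ G ⟶ H ⋙ S')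

/-- The mate of `σ : S G ⟶ H S'`. -/
def mateApp (F : A₁) : P'.obj (G.obj F) ⟶ H.obj (P.obj F) :=
  (adP'.homEquiv _ _).symm (G.map (adP.unit.app F) ≫ σ.app (P.obj F))

lemma homEquiv_mateApp (F : A₁) :
    adP'.homEquiv _ _ (mateApp adP adP' σ F) = G.map (adP.unit.app F) ≫ σ.app (P.obj F) := by
  simp [mateApp]

/-- The mate as a natural transformation. -/
def mate : G ⋙ P' ⟶ P ⋙ H where
  app F := mateApp adP adP' σ F
  naturality {F F'} g := by
    apply (adP'.homEquiv _ _).injective
    show adP'.homEquiv _ _ (P'.map (G.map g) ≫ mateApp adP adP' σ F') =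
      adP'.homEquiv _ _ (mateApp adP adP' σ F ≫ H.map (P.map g))
    rw [Adjunction.homEquiv_naturality_left, Adjunction.homEquiv_naturality_right, homEquiv_mateApp,
      homEquiv_mateApp, Category.assoc]
    have h1 := σ.naturality (P.map g)
    simp only [Functor.comp_map] at h1
    have h2 := adP.unit.naturality g
    simp only [Functor.id_map, Functor.comp_map] at h2
    rw [← h1, ← G.map_comp_assoc, ← G.map_comp_assoc, h2]

variable {Gr : A₃ ⥤ A₁} (adG : G ⊣ Gr) {Hr : A₄ ⥤ A₂} (adH : H ⊣ Hr)

/-- The transformation of right adjoints that the mate is conjugate to. -/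
lemma conjugate_mate_app (X : A₄) :
    (conjugateEquiv (adP.comp adH) (adG.comp adP') (mate adP adP' σ)).app X =
      adG.unit.app (S.obj (Hr.obj X)) ≫ Gr.map (σ.app (Hr.obj X) ≫ S'.map (adH.counit.app X)) := by
  have hσ := σ.naturality (adP.counit.app (Hr.obj X))
  simp only [Functor.comp_map, Functor.id_obj, Functor.comp_obj] at hσ
  have hm : adP'.homEquiv _ _ ((mate adP adP' σ).app (S.obj (Hr.obj X)) ≫ H.map (adP.counit.app (Hr.obj X)) ≫
      adH.counit.app X) = σ.app (Hr.obj X) ≫ S'.map (adH.counit.app X) := by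
    rw [Adjunction.homEquiv_naturality_right]
    show adP'.homEquiv _ _ (mateApp adP adP' σ _) ≫ _ = _
    rw [homEquiv_mateApp, S'.map_comp, Category.assoc, ← Category.assoc (σ.app _), ← hσ, Category.assoc,
      ← G.map_comp_assoc]
    erw [adP.right_triangle_components]
    erw [G.map_id]
    exact Category.id_comp _
  rw [← hm, Adjunction.homEquiv_unit]
  simp [conjugateEquiv_apply_app]

end Mate

variable {V' V Y X : Scheme.{u}} (j : V ⟶ X) [Etale j] (f : Y ⟶ X) (j' : V' ⟶ Y) [Etale j']
  (f' : V' ⟶ V) (h : IsPullback j' f' f j) [EtShriek.JCont j] [EtShriek.JCont j']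

instance isContinuous_compBc : (EtShriek.compEtale j ⋙ EtCoh.bc f).IsContinuous V.smallEtaleTopology
    Y.smallEtaleTopology :=
  Functor.isContinuous_comp _ _ V.smallEtaleTopology X.smallEtaleTopology Y.smallEtaleTopology

instance isContinuous_bcComp : (EtCoh.bc f' ⋙ EtShriek.compEtale j').IsContinuous V.smallEtaleTopology
    Y.smallEtaleTopology :=
  Functor.isContinuous_comp _ _ V.smallEtaleTopology V'.smallEtaleTopology Y.smallEtaleTopology

/-- Restriction after direct image, as one functor. -/
noncomputable def pushRestrIso₁ : EtCoh.push f ⋙ EtShriek.restrAlong j ≅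
    (EtShriek.compEtale j ⋙ EtCoh.bc f).sheafPushforwardContinuous AddCommGrpCat.{u + 1} V.smallEtaleTopology
      Y.smallEtaleTopology :=
  Functor.sheafPushforwardContinuousComp (EtShriek.compEtale j) (EtCoh.bc f) AddCommGrpCat.{u + 1}
      V.smallEtaleTopology X.smallEtaleTopology Y.smallEtaleTopology

/-- Direct image after restriction, as one functor. -/
noncomputable def restrPushIso₁ : EtShriek.restrAlong j' ⋙ EtCoh.push f' ≅
    (EtCoh.bc f' ⋙ EtShriek.compEtale j').sheafPushforwardContinuous AddCommGrpCat.{u + 1} V.smallEtaleTopology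
      Y.smallEtaleTopology :=
  Functor.sheafPushforwardContinuousComp (EtCoh.bc f') (EtShriek.compEtale j') AddCommGrpCat.{u + 1}
      V.smallEtaleTopology V'.smallEtaleTopology Y.smallEtaleTopology

/-- Direct image commutes with restriction. -/
noncomputable def restrPushIso :
    EtCoh.push f ⋙ EtShriek.restrAlong j ≅ EtShriek.restrAlong j' ⋙ EtCoh.push f' :=
  pushRestrIso₁ j f ≪≫ Functor.sheafPushforwardContinuousIso (compBcIso j f j' f' h).symm
      AddCommGrpCat.{u + 1} V.smallEtaleTopology Y.smallEtaleTopology ≪≫ (restrPushIso₁ j' f').symm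

/-- `f'^* j^{-1} ⟶ j'^{-1} f^*`. -/
noncomputable def pullRestrComm :
    EtShriek.restrAlong j ⋙ EtCoh.pull f' ⟶ EtCoh.pull f ⋙ EtShriek.restrAlong j' :=
  mate (EtCoh.pullPushAdj f) (EtCoh.pullPushAdj f') (restrPushIso j f j' f' h).hom

/-- The extension by zero and the base change transformation. -/
theorem unit_extZeroBaseChange (c : EtCoh.Ab V) :
    (EtShriek.extZeroAdj j').unit.app ((EtCoh.pull f').obj c) ≫
        (EtShriek.restrAlong j').map ((extZeroBaseChangeIso j f j' f' h).hom.app c) =
      (EtCoh.pull f').map ((EtShriek.extZeroAdj j).unit.app c) ≫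
        (pullRestrComm j f j' f' h).app ((EtShriek.extZero j).obj c) := by
  apply ((EtCoh.pullPushAdj f').homEquiv _ _).injective
  refine Eq.trans ?_ (((EtCoh.pullPushAdj f').homEquiv_naturality_left ((EtShriek.extZeroAdj j).unit.app c)
    ((pullRestrComm j f j' f' h).app ((EtShriek.extZero j).obj c))).trans
    (congrArg (fun t => (EtShriek.extZeroAdj j).unit.app c ≫ t)
      (homEquiv_mateApp (EtCoh.pullPushAdj f) (EtCoh.pullPushAdj f') (restrPushIso j f j' f' h).hom
        ((EtShriek.extZero j).obj c)))).symm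
  rw [Adjunction.homEquiv_unit, Functor.map_comp]
  have := Adjunction.unit_leftAdjointUniq_hom_app ((EtCoh.pullPushAdj f').comp (EtShriek.extZeroAdj j'))
    (((EtShriek.extZeroAdj j).comp (EtCoh.pullPushAdj f)).ofNatIsoRight (restrPushIso j f j' f' h)) c
  refine Eq.trans ?_ (this.trans ?_)
  · rw [Adjunction.comp_unit_app]
    exact (Category.assoc _ _ _).symm
  · simp [Adjunction.ofNatIsoRight, Adjunction.comp_unit_app]

/-- The comparison map of the two iterated fibre products over an object of the étale site of `X`. -/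
noncomputable def compareBc (W : X.Etale) :
    (EtCoh.bc f').obj ((EtCoh.bc j).obj W) ⟶ (EtCoh.bc j').obj ((EtCoh.bc f).obj W) :=
  (compBcAdj j').unit.app _ ≫ (EtCoh.bc j').map ((compBcIso j f j' f' h).hom.app _) ≫
    (EtCoh.bc j').map ((EtCoh.bc f).map ((compBcAdj j).counit.app W))

include h in
theorem compareBc_fst (W : X.Etale) :
    ((compareBc j f j' f' h W).left ≫ pullback.fst ((EtCoh.bc f).obj W).hom j') ≫ pullback.fst W.hom f =
      pullback.fst ((EtCoh.bc j).obj W).hom f' ≫ pullback.fst W.hom j := by
  let Q := (EtCoh.bc j).obj W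
  let P := (EtCoh.bc f').obj Q
  have h1 : ((compBcAdj j').unit.app P).left ≫
      (pullback.fst ((EtShriek.compEtale j').obj P).hom j' :
        ((EtCoh.bc j').obj ((EtShriek.compEtale j').obj P)).left ⟶ ((EtShriek.compEtale j').obj P).left) = 𝟙 _ :=
    pullback.lift_fst _ _ _
  have h2 : ((compBcAdj j).counit.app W).left = (pullback.fst W.hom j : Q.left ⟶ W.left) := rfl
  have m1 := (EtCoh.isPullback_bc_map j' ((compBcIso j f j' f' h).hom.app Q)).w
  have m2 := (EtCoh.isPullback_bc_map j' ((EtCoh.bc f).map ((compBcAdj j).counit.app W))).w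
  have m3 := (EtCoh.isPullback_bc_map f ((compBcAdj j).counit.app W)).w
  have m4 : ((compBcIso j f j' f' h).hom.app Q).left ≫
      (pullback.fst ((EtShriek.compEtale j).obj Q).hom f :
        ((EtCoh.bc f).obj ((EtShriek.compEtale j).obj Q)).left ⟶ ((EtShriek.compEtale j).obj Q).left) =
      pullback.fst Q.hom f' :=
    (isPullback_compBc j f j' f' h Q).isoPullback_hom_fst
  have e : ((compareBc j f j' f' h W).left ≫ pullback.fst ((EtCoh.bc f).obj W).hom j') =
      ((compBcIso j f j' f' h).hom.app Q).left ≫ ((EtCoh.bc f).map ((compBcAdj j).counit.app W)).left := by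
    show (((compBcAdj j').unit.app P).left ≫ ((EtCoh.bc j').map ((compBcIso j f j' f' h).hom.app Q)).left ≫
      ((EtCoh.bc j').map ((EtCoh.bc f).map ((compBcAdj j).counit.app W))).left) ≫ _ = _
    rw [Category.assoc, Category.assoc]
    refine (congrArg (fun t => ((compBcAdj j').unit.app P).left ≫
      ((EtCoh.bc j').map ((compBcIso j f j' f' h).hom.app Q)).left ≫ t) m2).trans ?_
    refine (congrArg (fun t => ((compBcAdj j').unit.app P).left ≫ t)
      ((Category.assoc _ _ _).symm.trans ((congrArg (fun t => t ≫ _) m1).trans (Category.assoc _ _ _)))).trans ?_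
    exact (Category.assoc _ _ _).symm.trans ((congrArg (fun t => t ≫ _) h1).trans (Category.id_comp _))
  rw [e, Category.assoc]
  refine (congrArg (fun t => ((compBcIso j f j' f' h).hom.app Q).left ≫ t) m3).trans ?_
  rw [← Category.assoc, h2]
  exact congrArg (fun t => t ≫ _) m4

include h in
theorem isIso_compareBc (W : X.Etale) : IsIso (compareBc j f j' f' h W) := by
  have hp : IsPullback (pullback.fst ((EtCoh.bc j).obj W).hom f' ≫ pullback.fst W.hom j)
      (pullback.snd ((EtCoh.bc j).obj W).hom f') W.hom (f' ≫ j) :=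
    (IsPullback.of_hasPullback ((EtCoh.bc j).obj W).hom f').paste_horiz (IsPullback.of_hasPullback W.hom j)
  have hq : IsPullback (pullback.fst ((EtCoh.bc f).obj W).hom j' ≫ pullback.fst W.hom f)
      (pullback.snd ((EtCoh.bc f).obj W).hom j') W.hom (f' ≫ j) := by
    rw [← h.w]
    exact (IsPullback.of_hasPullback ((EtCoh.bc f).obj W).hom j').paste_horiz (IsPullback.of_hasPullback W.hom f)
  · haveI : IsIso (compareBc j f j' f' h W).left := by
      have : (compareBc j f j' f' h W).left = (hp.isoIsPullback _ _ hq).hom := by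
        refine hq.hom_ext ?_ ?_
        · rw [IsPullback.isoIsPullback_hom_fst, ← Category.assoc]
          exact compareBc_fst j f j' f' h W
        · rw [IsPullback.isoIsPullback_hom_snd]
          exact MorphismProperty.Over.w (compareBc j f j' f' h W)
      rw [this]; infer_instance
    haveI : IsIso ((Scheme.Etale.forget V').map (compareBc j f j' f' h W)) := by
      haveI : IsIso ((CategoryTheory.Over.forget V').map ((Scheme.Etale.forget V').map (compareBc j f j' f' h W))) :=
        ‹IsIso (compareBc j f j' f' h W).left›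
      exact isIso_of_reflects_iso _ (CategoryTheory.Over.forget V')
    exact isIso_of_reflects_iso _ (Scheme.Etale.forget V')

/-- The base change transformation is an isomorphism. -/
theorem isIso_pullRestrComm : IsIso (pullRestrComm j f j' f' h) := by
  let a := (EtCoh.pullPushAdj f).comp (restrPushAdj j')
  let b := (restrPushAdj j).comp (EtCoh.pullPushAdj f')
  have key : ∀ (G : EtCoh.Ab V') (W : X.Etale),
      ((conjugateEquiv a b (pullRestrComm j f j' f' h)).app G).hom.app (op W) =
        G.obj.map (compareBc j f j' f' h W).op := by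
    intro G W
    have h1 := conjugate_mate_app (EtCoh.pullPushAdj f) (EtCoh.pullPushAdj f')
      (restrPushIso j f j' f' h).hom (restrPushAdj j) (restrPushAdj j') G
    refine (congrArg (fun m => m.hom.app (op W)) h1).trans ?_
    show G.obj.map ((EtCoh.bc j').map ((EtCoh.bc f).map ((compBcAdj j).counit.app W))).op ≫
      G.obj.map ((EtCoh.bc j').map ((compBcIso j f j' f' h).hom.app _)).op ≫
        G.obj.map ((compBcAdj j').unit.app _).op = _
    rw [← G.obj.map_comp, ← G.obj.map_comp, compareBc, op_comp, op_comp, Category.assoc]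
    rfl
  haveI : ∀ G : EtCoh.Ab V', IsIso ((conjugateEquiv a b (pullRestrComm j f j' f' h)).app G) := fun G => by
    haveI : ∀ W, IsIso (((conjugateEquiv a b (pullRestrComm j f j' f' h)).app G).hom.app W) := fun W => by
      obtain ⟨W⟩ := W
      rw [key G W]
      haveI := isIso_compareBc j f j' f' h W
      infer_instance
    haveI : IsIso ((sheafToPresheaf X.smallEtaleTopology AddCommGrpCat.{u + 1}).map
      ((conjugateEquiv a b (pullRestrComm j f j' f' h)).app G)) := NatIso.isIso_of_isIso_app
        ((conjugateEquiv a b (pullRestrComm j f j' f' h)).app G).hom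
    exact isIso_of_reflects_iso _ (sheafToPresheaf X.smallEtaleTopology AddCommGrpCat.{u + 1})
  haveI := NatIso.isIso_of_isIso_app (conjugateEquiv a b (pullRestrComm j f j' f' h))
  exact conjugateEquiv_of_iso a b _

end Groth.Agent.Et18.AcyclicN
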