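import Groth.Agent.Et18.AcyclicN.BCMate
import Groth.Agent.Et18.OverSite
import Groth.Agent.Et18.Stalk
import Groth.Agent.Et18.GermBasics
import Groth.Agent.EtMV.Generic
import Groth.Agent.EtLimit.HMaps
import Groth.Prelude.Def_EtAcyc

/-!
# Cohomology over étale objects, seen on extensions by zero of the integers

For a cartesian square over an étale `j`, the action of `f^*` on `Ext(j_! ℤ, F)` is the pullback map on the
cohomology of `F|_V` along `f'`.
-/

universe u

open CategoryTheory CategoryTheory.Limits CategoryTheory.Abelian AlgebraicGeometry Opposite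
open Groth.Agent.EtMV Groth.Agent.EtLimit

set_option linter.all false
set_option backward.isDefEq.respectTransparency.types false
set_option backward.isDefEq.respectTransparency false
set_option backward.defeqAttrib.useBackward true
set_option synthInstance.maxHeartbeats 400000
set_option maxHeartbeats 1000000

namespace Groth.Agent.Et18.AcyclicN

section Iso

universe w v₀ u₀

variable {A : Type u₀} [Category.{v₀} A] [Abelian A] [HasExt.{w} A]

theorem precomp_bijective {K M : A} (a : K ⟶ M) [IsIso a] (N : A) (n : ℕ) :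
    Function.Bijective fun x : Ext.{w} M N n => (Ext.mk₀ a).comp x (zero_add n) := by
  refine Function.bijective_iff_has_inverse.2 ⟨fun y => (Ext.mk₀ (inv a)).comp y (zero_add n), fun x => ?_, fun y => ?_⟩
  · show (Ext.mk₀ (inv a)).comp ((Ext.mk₀ a).comp x _) _ = x
    rw [Ext.mk₀_comp_mk₀_assoc, IsIso.inv_hom_id, Ext.mk₀_id_comp]
  · show (Ext.mk₀ a).comp ((Ext.mk₀ (inv a)).comp y _) _ = y
    rw [Ext.mk₀_comp_mk₀_assoc, IsIso.hom_inv_id, Ext.mk₀_id_comp]

theorem postcomp_bijective {M N N' : A} (b : N ⟶ N') [IsIso b] (n : ℕ) :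
    Function.Bijective fun x : Ext.{w} M N n => x.comp (Ext.mk₀ b) (add_zero n) := by
  refine Function.bijective_iff_has_inverse.2 ⟨fun y => y.comp (Ext.mk₀ (inv b)) (add_zero n), fun x => ?_, fun y => ?_⟩
  · show (x.comp (Ext.mk₀ b) _).comp (Ext.mk₀ (inv b)) _ = x
    rw [Ext.comp_assoc_of_third_deg_zero, Ext.mk₀_comp_mk₀, IsIso.hom_inv_id, Ext.comp_mk₀_id]
  · show (y.comp (Ext.mk₀ (inv b)) _).comp (Ext.mk₀ b) _ = y
    rw [Ext.comp_assoc_of_third_deg_zero, Ext.mk₀_comp_mk₀, IsIso.inv_hom_id, Ext.comp_mk₀_id]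

end Iso

variable {V' V Y X : Scheme.{u}} (j : V ⟶ X) [Etale j] (f : Y ⟶ X) (j' : V' ⟶ Y) [Etale j']
  (f' : V' ⟶ V) (h : IsPullback j' f' f j) [EtShriek.JCont j] [EtShriek.JCont j']

/-- `j_! ℤ`. -/
noncomputable abbrev testObj : EtCoh.Ab X := (EtShriek.extZero j).obj (EtCoh.const V ℤ)

instance restrAlong_additive : (EtShriek.restrAlong j).Additive := (restrPushAdj j).left_adjoint_additive

theorem bijective_res_unit (F : EtCoh.Ab X) (q : ℕ) : Function.Bijective
    (res (EtShriek.restrAlong j) ((EtShriek.extZeroAdj j).unit.app (EtCoh.const V ℤ)) (F := F) q :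
      Ext.{u + 1} (testObj j) F q → Ext.{u + 1} (EtCoh.const V ℤ) ((EtShriek.restrAlong j).obj F) q) := by
  haveI : (EtShriek.extZero j).Additive := (EtShriek.extZeroAdj j).left_adjoint_additive
  haveI : PreservesFiniteColimits (EtShriek.extZero j) :=
    haveI : PreservesColimitsOfSize.{0, 0} (EtShriek.extZero j) := (EtShriek.extZeroAdj j).leftAdjoint_preservesColimits
    PreservesColimitsOfSize.preservesFiniteColimits _
  exact res_unit_bijective (EtShriek.restrAlong j) (EtShriek.extZeroAdj j) _ F q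

include h in
/-- The action of `f^*` on `Ext(j_! ℤ, F)` and pullback along `f'` on the cohomology of the restriction. -/
theorem exists_square (F : EtCoh.Ab X) (q : ℕ) :
    ∃ (Φ₀ : Ext.{u + 1} (testObj j) F q → EtCoh.H V ((EtShriek.restrAlong j).obj F) q)
      (Φ₁ : Ext.{u + 1} ((EtCoh.pull f).obj (testObj j)) ((EtCoh.pull f).obj F) q →
        EtCoh.H V' ((EtShriek.restrAlong j').obj ((EtCoh.pull f).obj F)) q)
      (T : EtCoh.H V' ((EtCoh.pull f').obj ((EtShriek.restrAlong j).obj F)) q →
        EtCoh.H V' ((EtShriek.restrAlong j').obj ((EtCoh.pull f).obj F)) q),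
      Function.Bijective Φ₀ ∧ Function.Bijective Φ₁ ∧ Function.Bijective T ∧
        ∀ z, Φ₁ (z.mapExactFunctor (EtCoh.pull f)) = T (EtCore.Hpull f' _ q (Φ₀ z)) := by
  let c := EtCoh.const V ℤ
  let φ := (EtCore.pullConst f' ℤ).inv
  let θ := (extZeroBaseChangeIso j f j' f' h).hom.app c
  let η' := (EtShriek.extZeroAdj j').unit.app ((EtCoh.pull f').obj c)
  haveI : IsIso (pullRestrComm j f j' f' h) := isIso_pullRestrComm j f j' f' h
  let τ := (pullRestrComm j f j' f' h).app F
  haveI : IsIso τ := inferInstanceAs (IsIso ((pullRestrComm j f j' f' h).app F))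
  refine ⟨res (EtShriek.restrAlong j) ((EtShriek.extZeroAdj j).unit.app c) q,
    fun x => res (EtShriek.restrAlong j') (φ ≫ η') q ((Ext.mk₀ θ).comp x (zero_add q)),
    fun y => y.comp (Ext.mk₀ τ) (add_zero q), bijective_res_unit j F q, ?_, ?_, fun z => ?_⟩
  · have e : (fun x => res.{_, _, _, _, u + 1, u + 1} (EtShriek.restrAlong j') (φ ≫ η') q ((Ext.mk₀ θ).comp x (zero_add q))) =
        ((fun y => (Ext.mk₀ φ).comp y (zero_add q)) ∘
          (res.{_, _, _, _, u + 1, u + 1} (EtShriek.restrAlong j') η' (F := (EtCoh.pull f).obj F) q) ∘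
            fun x => (Ext.mk₀ θ).comp x (zero_add q)) := by
      funext x
      simp only [Function.comp_apply, res_apply, Ext.mk₀_comp_mk₀_assoc]
    refine (congrArg Function.Bijective e).mpr ?_
    refine (precomp_bijective φ _ q).comp (Function.Bijective.comp ?_
      (precomp_bijective θ _ q))
    haveI : (EtShriek.extZero j').Additive := (EtShriek.extZeroAdj j').left_adjoint_additive
    haveI : PreservesFiniteColimits (EtShriek.extZero j') :=
      haveI : PreservesColimitsOfSize.{0, 0} (EtShriek.extZero j') := (EtShriek.extZeroAdj j').leftAdjoint_preservesColimits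
      PreservesColimitsOfSize.preservesFiniteColimits _
    exact res_unit_bijective (EtShriek.restrAlong j') (EtShriek.extZeroAdj j') _ _ q
  · exact postcomp_bijective τ q
  · let Q := EtCoh.pull f ⋙ EtShriek.restrAlong j'
    let β : EtCoh.const V' ℤ ⟶ Q.obj (testObj j) := (φ ≫ η') ≫ (EtShriek.restrAlong j').map θ
    have h1 := res_res.{_, _, _, _, _, _, u + 1, u + 1, u + 1} (EtCoh.pull f) (EtShriek.restrAlong j') Q (𝟙 _)
      (𝟙 ((EtCoh.pull f).obj (testObj j))) β β
      (by rw [CategoryTheory.Functor.map_id]; exact (congrArg (β ≫ ·) (Category.id_comp _)).trans (Category.comp_id β)) (F := F) q z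
    have h2 := res_res.{_, _, _, _, _, _, u + 1, u + 1, u + 1} (EtShriek.restrAlong j) (EtCoh.pull f') Q
      (pullRestrComm j f j' f' h) ((EtShriek.extZeroAdj j).unit.app c) φ β
      ((congrArg (φ ≫ ·) (unit_extZeroBaseChange j f j' f' h c)).symm.trans (Category.assoc _ _ _).symm) (F := F) q z
    refine Eq.trans ?_ (h1.trans h2.symm)
    refine (res_comp' (EtShriek.restrAlong j') (φ ≫ η') θ β rfl q _).trans ?_
    refine Eq.trans ?_ (Ext.comp_mk₀_id _).symm
    refine congrArg _ ?_
    exact (Ext.mk₀_id_comp _).symm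

include h in
theorem bijective_mapExact (F : EtCoh.Ab X) (q : ℕ)
    (hb : Function.Bijective (EtCore.Hpull f' ((EtShriek.restrAlong j).obj F) q)) :
    Function.Bijective fun z : Ext.{u + 1} (testObj j) F q => z.mapExactFunctor (EtCoh.pull f) := by
  obtain ⟨Φ₀, Φ₁, T, h₀, h₁, hT, e⟩ := exists_square j f j' f' h F q
  refine (Function.Bijective.of_comp_iff' h₁ _).1 ?_
  have : (Φ₁ ∘ fun z => z.mapExactFunctor (EtCoh.pull f)) = T ∘ EtCore.Hpull f' _ q ∘ Φ₀ := funext e
  rw [this]
  exact hT.comp (hb.comp h₀)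

/-! ### Sections -/

omit [EtShriek.JCont j] in
/-- Restrictions of torsion sheaves. -/
theorem isLTorsion_restr [EtShriek.JCont j] {L : Set ℕ} {F : EtCoh.Ab X} (hF : EtAcyc.IsLTorsion L F) :
    EtAcyc.IsLTorsion L ((EtShriek.restrAlong j).obj F) := by
  rw [isLTorsion_iff_stalks]
  intro Ω _ _ ξ t
  let e := (stalkRestrIso j ξ).app F
  obtain ⟨m, hm, h0⟩ := (isLTorsion_iff_stalks F L).1 hF Ω (ξ ≫ j) (e.hom t)
  refine ⟨m, hm, ?_⟩
  have := congrArg e.inv h0
  rw [map_nsmul, map_zero, ← ConcreteCategory.comp_apply, Iso.hom_inv_id] at this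
  exact this

/-- Sections over an étale object as maps out of its extension by zero. -/
noncomputable def sectOf {Z : Scheme.{u}} (W : Z.Etale) {A : EtCoh.Ab Z} (k : testObj W.hom ⟶ A) :
    A.obj.obj (op ((EtShriek.compEtale W.hom).obj (EtCoh.top W.left))) :=
  secOf ((EtShriek.extZeroAdj W.hom).homEquiv _ _ k)

theorem sectOf_comp {Z : Scheme.{u}} (W : Z.Etale) {A B : EtCoh.Ab Z} (k : testObj W.hom ⟶ A) (m : A ⟶ B) :
    sectOf W (k ≫ m) = m.hom.app _ (sectOf W k) := by
  rw [sectOf, Adjunction.homEquiv_naturality_right, secOf, Adjunction.homEquiv_naturality_right]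
  rfl

theorem bijective_sectOf {Z : Scheme.{u}} (W : Z.Etale) (A : EtCoh.Ab Z) :
    Function.Bijective (sectOf W (A := A)) :=
  ⟨fun k k' e => ((EtShriek.extZeroAdj W.hom).homEquiv _ _).injective (secOf_injective e), fun s => by
    obtain ⟨g, hg⟩ := exists_secOf (F := (EtShriek.restrAlong W.hom).obj A) s
    exact ⟨((EtShriek.extZeroAdj W.hom).homEquiv _ _).symm g, by rw [sectOf, Equiv.apply_symm_apply, hg]⟩⟩

/-- An étale object is the image of its own top object. -/
noncomputable def compTopIso {Z : Scheme.{u}} (W : Z.Etale) :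
    (EtShriek.compEtale W.hom).obj (EtCoh.top W.left) ≅ W :=
  MorphismProperty.Over.isoMk (Iso.refl W.left) (by
    show 𝟙 _ ≫ W.hom = 𝟙 _ ≫ W.hom
    rfl)

theorem app_eq_conj {Z : Scheme.{u}} (W : Z.Etale) {A B : EtCoh.Ab Z} (m : A ⟶ B) :
    m.hom.app (op W) = A.obj.map (compTopIso W).hom.op ≫
      m.hom.app (op ((EtShriek.compEtale W.hom).obj (EtCoh.top W.left))) ≫ B.obj.map (compTopIso W).inv.op := by
  rw [← NatTrans.naturality, ← Category.assoc, ← A.obj.map_comp, ← op_comp, Iso.inv_hom_id, op_id, A.obj.map_id,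
    Category.id_comp]

theorem eq_zero_of_tests {Z : Scheme.{u}} {C D : EtCoh.Ab Z} (π : C ⟶ D)
    (hπ : ∀ (W : Z.Etale) (k : testObj W.hom ⟶ C), k ≫ π = 0) : π = 0 := by
  apply (sheafToPresheaf Z.smallEtaleTopology AddCommGrpCat.{u + 1}).map_injective
  refine NatTrans.ext (funext fun W => ?_)
  obtain ⟨W⟩ := W
  show π.hom.app (op W) = 0
  rw [app_eq_conj W π]
  have : π.hom.app (op ((EtShriek.compEtale W.hom).obj (EtCoh.top W.left))) = 0 := by
    ext s
    obtain ⟨k, rfl⟩ := (bijective_sectOf W C).2 s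
    rw [← sectOf_comp, hπ W k, sectOf, Adjunction.homEquiv_unit, CategoryTheory.Functor.map_zero, comp_zero, secOf_zero]
    rfl
  rw [this, zero_comp, comp_zero]

theorem isIso_of_tests {Z : Scheme.{u}} {A B : EtCoh.Ab Z} (m : A ⟶ B)
    (hm : ∀ W : Z.Etale, Function.Bijective fun k : testObj W.hom ⟶ A => k ≫ m) : IsIso m := by
  haveI : ∀ W, IsIso (m.hom.app W) := fun W => by
    obtain ⟨W⟩ := W
    haveI : IsIso (m.hom.app (op ((EtShriek.compEtale W.hom).obj (EtCoh.top W.left)))) := by
      rw [ConcreteCategory.isIso_iff_bijective]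
      refine (Function.Bijective.of_comp_iff _ (bijective_sectOf W A)).1 ?_
      rw [show (⇑(ConcreteCategory.hom (m.hom.app (op ((EtShriek.compEtale W.hom).obj (EtCoh.top W.left))))) ∘
        sectOf W (A := A)) = sectOf W (A := B) ∘ fun k => k ≫ m from funext fun k => (sectOf_comp W k m).symm]
      exact (bijective_sectOf W B).comp (hm W)
    rw [app_eq_conj W m]
    infer_instance
  haveI : IsIso ((sheafToPresheaf Z.smallEtaleTopology AddCommGrpCat.{u + 1}).map m) :=
    NatIso.isIso_of_isIso_app m.hom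
  exact isIso_of_reflects_iso _ (sheafToPresheaf Z.smallEtaleTopology AddCommGrpCat.{u + 1})

end Groth.Agent.Et18.AcyclicN
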