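import Groth.Agent.EtCmp.AdjExt
import Groth.Agent.DCat.Acyclic

/-!
# `Ext` and adjunctions: the case of vanishing in a range of degrees

For an exact left adjoint `L ⊣ R` the map `Extⁱ(M, R G) → Extⁱ(L M, G)` is bijective up to degree `q`
and injective in degree `q + 1` when the higher derived functors of `R` vanish on `G` up to degree `q`;
conversely surjectivity against enough test objects forces that vanishing.
-/

set_option autoImplicit false
set_option linter.all false
set_option backward.isDefEq.respectTransparency false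
set_option backward.defeqAttrib.useBackward true

universe w w' v v' u u'

open CategoryTheory CategoryTheory.Limits CategoryTheory.Abelian
open Groth.Agent.EtCmp

namespace Groth.Agent.Et18.AcyclicN

variable {A : Type u} [Category.{v} A] [Abelian A] [HasExt.{w} A]

/-- A class of degree one dies on a cover of the source. -/
theorem exists_epi_killing [EnoughInjectives A] {M N : A} (y : Ext.{w} M N 1) :
    ∃ (E : A) (p : E ⟶ M), Epi p ∧ (Ext.mk₀ p).comp y (zero_add 1) = 0 := by
  let S := SiteCoh.injEmbed N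
  have hS : S.ShortExact := SiteCoh.injEmbed_shortExact N
  haveI : Injective S.X₂ := inferInstanceAs (Injective (Injective.under N))
  obtain ⟨y₀, rfl⟩ := Ext.covariant_sequence_exact₁ M hS y (Ext.eq_zero_of_injective _) (zero_add 1)
  obtain ⟨k, rfl⟩ := (Ext.mk₀_bijective _ _).2 y₀
  haveI : Epi S.g := hS.epi_g
  refine ⟨pullback k S.g, pullback.fst k S.g, inferInstance, ?_⟩
  rw [Ext.mk₀_comp_mk₀_assoc, pullback.condition, ← Ext.mk₀_comp_mk₀_assoc]
  rw [hS.comp_extClass]
  exact Ext.comp_zero _ _ _ _ _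

variable {B : Type u'} [Category.{v'} B] [Abelian B] [HasExt.{w'} B] [EnoughInjectives B] [HasInjectiveResolutions B]
  {L : A ⥤ B} {R : B ⥤ A} (adj : L ⊣ R) [L.Additive] [R.Additive]
  [PreservesFiniteLimits L] [PreservesFiniteColimits L] [PreservesFiniteLimits R]

theorem adjExtHom_mk₀ (M : A) (F : B) (f : M ⟶ R.obj F) :
    adjExtHom.{w, w'} adj M F 0 (Ext.mk₀ f) = Ext.mk₀ ((adj.homEquiv M F).symm f) := by
  rw [adjExtHom_apply, Ext.mapExactFunctor_mk₀, Ext.mk₀_comp_mk₀, Adjunction.homEquiv_counit]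

theorem adjExtHom_precomp {M M' : A} (p : M' ⟶ M) (F : B) (n : ℕ) (x : Ext.{w} M (R.obj F) n) :
    adjExtHom.{w, w'} adj M' F n ((Ext.mk₀ p).comp x (zero_add n)) =
      (Ext.mk₀ (L.map p)).comp (adjExtHom adj M F n x) (zero_add n) := by
  rw [adjExtHom_apply, adjExtHom_apply, Ext.mapExactFunctor_comp, Ext.mapExactFunctor_mk₀]
  exact Ext.comp_assoc_of_third_deg_zero _ _ _ _

theorem adjExtHom_postcomp (M : A) {F F' : B} (g : F ⟶ F') (n : ℕ) (x : Ext.{w} M (R.obj F) n) :
    adjExtHom.{w, w'} adj M F' n (x.comp (Ext.mk₀ (R.map g)) (add_zero n)) =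
      (adjExtHom adj M F n x).comp (Ext.mk₀ g) (add_zero n) := by
  rw [adjExtHom_apply, adjExtHom_apply, Ext.mapExactFunctor_comp, Ext.mapExactFunctor_mk₀,
    Ext.comp_assoc_of_third_deg_zero, Ext.comp_assoc_of_third_deg_zero, Ext.mk₀_comp_mk₀, Ext.mk₀_comp_mk₀]
  exact congrArg (fun t => (x.mapExactFunctor L).comp (Ext.mk₀ t) (add_zero n)) (adj.counit.naturality g)

/-- Composed with the unit it is the action of `L`. -/
theorem adjExtHom_unit (M F : A) (n : ℕ) (x : Ext.{w} M F n) :
    adjExtHom.{w, w'} adj M (L.obj F) n (x.comp (Ext.mk₀ (adj.unit.app F)) (add_zero n)) = x.mapExactFunctor L := by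
  rw [adjExtHom_apply, Ext.mapExactFunctor_comp, Ext.mapExactFunctor_mk₀, Ext.comp_assoc_of_third_deg_zero,
    Ext.mk₀_comp_mk₀]
  erw [adj.left_triangle_components]
  exact Ext.comp_mk₀_id _

/-- Compatibility with connecting maps along a comparison of short exact sequences. -/
theorem adjExtHom_δ {S : ShortComplex B} (hS : S.ShortExact) {T : ShortComplex A} (hT : T.ShortExact)
    (φ : T.map L ⟶ S) {M : A} {n : ℕ} (y : Ext.{w} M T.X₃ n) :
    ((y.comp hT.extClass rfl).mapExactFunctor L).comp (Ext.mk₀ φ.τ₁) (add_zero (n + 1)) =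
      ((y.mapExactFunctor L).comp (Ext.mk₀ φ.τ₃) (add_zero n) : Ext.{w'} (L.obj M) S.X₃ n).comp hS.extClass rfl := by
  let _ := HasDerivedCategory.standard A
  let _ := HasDerivedCategory.standard B
  have hLT : (T.map L).ShortExact := hT.map_of_exact L
  have e1 : (y.comp hT.extClass rfl).mapExactFunctor L = (y.mapExactFunctor L).comp hLT.extClass rfl := by
    rw [Ext.mapExactFunctor_comp, Ext.mapExactFunctor_extClass]
  have e2 : (Ext.mk₀ φ.τ₃).comp hS.extClass (zero_add 1) = hLT.extClass.comp (Ext.mk₀ φ.τ₁) (add_zero 1) :=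
    (ShortComplex.ShortExact.extClass_naturality hLT hS φ).symm
  rw [e1, Ext.comp_assoc_of_second_deg_zero, e2]
  exact Ext.comp_assoc_of_third_deg_zero _ _ _ _

theorem injective_adjExtHom_one (M : A) (G : B) : Function.Injective (adjExtHom.{w, w'} adj M G 1) := by
  let S := SiteCoh.injEmbed G
  have hS : S.ShortExact := SiteCoh.injEmbed_shortExact G
  haveI : Injective S.X₂ := inferInstanceAs (Injective (Injective.under G))
  haveI : Injective (R.obj S.X₂) := Injective.injective_of_adjoint adj _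
  haveI := hS.mono_f
  let T : ShortComplex A := ShortComplex.mk (R.map S.f) (cokernel.π _) (cokernel.condition _)
  have hT : T.ShortExact :=
    { exact := ShortComplex.exact_cokernel _
      mono_f := inferInstanceAs (Mono (R.map S.f))
      epi_g := inferInstanceAs (Epi (cokernel.π _)) }
  haveI : Injective T.X₂ := inferInstanceAs (Injective (R.obj S.X₂))
  have hz0 : R.map S.f ≫ R.map S.g = 0 := by rw [← R.map_comp, S.zero, R.map_zero]
  let ι : T.X₃ ⟶ R.obj S.X₃ := cokernel.desc _ (R.map S.g) hz0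
  have hι : T.g ≫ ι = R.map S.g := cokernel.π_desc _ _ _
  haveI : Mono ι := ShortComplex.Exact.mono_cokernelDesc
    (S := ShortComplex.mk _ _ hz0) (hS.exact.map_of_mono_of_preservesKernel R hS.mono_f inferInstance)
  let φ : T.map L ⟶ S :=
    { τ₁ := adj.counit.app _
      τ₂ := adj.counit.app _
      τ₃ := (adj.homEquiv _ _).symm ι
      comm₁₂ := (adj.counit.naturality S.f).symm
      comm₂₃ := by
        show adj.counit.app _ ≫ S.g = L.map T.g ≫ (adj.homEquiv _ _).symm ι
        rw [← Adjunction.homEquiv_naturality_left_symm, hι, Adjunction.homEquiv_counit]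
        exact (adj.counit.naturality S.g).symm }
  refine (injective_iff_map_eq_zero _).2 fun z hz => ?_
  obtain ⟨y, rfl⟩ := Ext.covariant_sequence_exact₁ M hT z (Ext.eq_zero_of_injective _) rfl
  obtain ⟨k, rfl⟩ := (Ext.mk₀_bijective _ _).2 y
  rw [adjExtHom_apply] at hz
  erw [adjExtHom_δ hS hT φ (Ext.mk₀ k)] at hz
  rw [Ext.mapExactFunctor_mk₀, Ext.mk₀_comp_mk₀] at hz
  obtain ⟨w, hw⟩ := Ext.covariant_sequence_exact₃ _ hS _ (zero_add 1) hz
  obtain ⟨l, rfl⟩ := (Ext.mk₀_bijective _ _).2 w
  rw [Ext.mk₀_comp_mk₀] at hw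
  have h1 : l ≫ S.g = L.map k ≫ φ.τ₃ := (Ext.mk₀_bijective _ _).1 hw
  have h2 : k = adj.homEquiv _ _ l ≫ T.g := by
    rw [← cancel_mono ι, Category.assoc, hι, ← Adjunction.homEquiv_naturality_right, h1]
    show _ = adj.homEquiv _ _ (L.map k ≫ (adj.homEquiv _ _).symm ι)
    rw [Adjunction.homEquiv_naturality_left, Equiv.apply_symm_apply]
  subst h2
  rw [← Ext.mk₀_comp_mk₀, Ext.comp_assoc_of_second_deg_zero, hT.comp_extClass]
  exact Ext.comp_zero _ _ _ _ _

theorem bijective_zero (M : A) (G : B) : Function.Bijective (adjExtHom.{w, w'} adj M G 0) := by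
  refine ⟨fun x y hxy => ?_, fun x => ?_⟩
  · obtain ⟨f, rfl⟩ := (Ext.mk₀_bijective _ _).2 x
    obtain ⟨g, rfl⟩ := (Ext.mk₀_bijective _ _).2 y
    rw [adjExtHom_mk₀, adjExtHom_mk₀] at hxy
    rw [(adj.homEquiv M G).symm.injective ((Ext.mk₀_bijective _ _).1 hxy)]
  · obtain ⟨f, rfl⟩ := (Ext.mk₀_bijective _ _).2 x
    exact ⟨Ext.mk₀ (adj.homEquiv M G f), by rw [adjExtHom_mk₀, Equiv.symm_apply_apply]⟩

/-- Vanishing up to degree `q` gives bijectivity up to `q` and injectivity one degree higher. -/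
theorem bijective_of_vanish (M : A) (q : ℕ) : ∀ G : B,
    (∀ i : ℕ, 1 ≤ i → i ≤ q → IsZero ((R.rightDerived i).obj G)) →
    Function.Bijective (adjExtHom.{w, w'} adj M G q) ∧ Function.Injective (adjExtHom.{w, w'} adj M G (q + 1)) := by
  induction q with
  | zero => exact fun G _ => ⟨bijective_zero adj M G, injective_adjExtHom_one adj M G⟩
  | succ q ih =>
    intro G hG
    let S := SiteCoh.injEmbed G
    have hS : S.ShortExact := SiteCoh.injEmbed_shortExact G
    haveI : Injective S.X₂ := inferInstanceAs (Injective (Injective.under G))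
    have hI : ∀ i : ℕ, 1 ≤ i → IsZero ((R.rightDerived i).obj S.X₂) := fun i hi => DCat.Acyclic.acy_injective _ i hi
    obtain ⟨hb3, hi3⟩ := ih S.X₃ fun i h1 h2 =>
      DCat.Acyclic.isZero_rightDerived_X₃ hS i (hI i h1) (hG (i + 1) (by omega) (by omega))
    obtain ⟨hb2, -⟩ := ih S.X₂ fun i h1 _ => hI i h1
    have hRS : (S.map R).ShortExact :=
      { exact := hS.exact.map_of_mono_of_preservesKernel R hS.mono_f inferInstance
        mono_f := by
          haveI := hS.mono_f
          exact inferInstanceAs (Mono (R.map S.f))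
        epi_g := SpecSeq.epi_map_of_isZero_rightDerived_one hS (hG 1 le_rfl (by omega)) }
    haveI : Injective (S.map R).X₂ := Injective.injective_of_adjoint adj S.X₂
    let φ : (S.map R).map L ⟶ S :=
      { τ₁ := adj.counit.app _
        τ₂ := adj.counit.app _
        τ₃ := adj.counit.app _
        comm₁₂ := (adj.counit.naturality S.f).symm
        comm₂₃ := (adj.counit.naturality S.g).symm }
    have hδ : ∀ (m : ℕ) (y : Ext.{w} M (R.obj S.X₃) m), adjExtHom.{w, w'} adj M G (m + 1) (y.comp hRS.extClass rfl) =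
        (adjExtHom adj M S.X₃ m y).comp hS.extClass rfl := fun m y => adjExtHom_δ hS hRS φ y
    refine ⟨⟨(ih G fun i h1 h2 => hG i h1 (by omega)).2, fun x => ?_⟩, ?_⟩
    · obtain ⟨y, hy⟩ := Ext.covariant_sequence_exact₁ _ hS x (Ext.eq_zero_of_injective _) rfl
      obtain ⟨y', rfl⟩ := hb3.2 y
      exact ⟨y'.comp hRS.extClass rfl, (hδ q y').trans hy⟩
    · refine (injective_iff_map_eq_zero _).2 fun z hz => ?_
      obtain ⟨y, rfl⟩ := Ext.covariant_sequence_exact₁ M hRS z (Ext.eq_zero_of_injective _) rfl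
      erw [hδ] at hz
      obtain ⟨w₀, hw⟩ := Ext.covariant_sequence_exact₃ _ hS _ rfl hz
      have h0 : adjExtHom.{w, w'} adj M S.X₃ (q + 1) y = 0 := by
        rw [← hw, Ext.eq_zero_of_injective w₀, Ext.zero_comp]
      rw [(injective_iff_map_eq_zero _).1 hi3 y h0, Ext.zero_comp]

/-- Surjectivity against test objects forces vanishing. -/
theorem isZero_of_surjective [EnoughInjectives A] (P : A → Prop)
    (hsep : ∀ {C D : A} (π : C ⟶ D), (∀ M : A, P M → ∀ k : M ⟶ C, k ≫ π = 0) → π = 0) :
    ∀ (q : ℕ) (G : B), (∀ M : A, P M → ∀ i : ℕ, 1 ≤ i → i ≤ q → Function.Surjective (adjExtHom.{w, w'} adj M G i)) →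
      ∀ i : ℕ, 1 ≤ i → i ≤ q → IsZero ((R.rightDerived i).obj G) := by
  intro q
  induction q with
  | zero => intro G _ i h1 h2; omega
  | succ q ih =>
    intro G hG i h1 h2
    let S := SiteCoh.injEmbed G
    have hS : S.ShortExact := SiteCoh.injEmbed_shortExact G
    haveI : Injective S.X₂ := inferInstanceAs (Injective (Injective.under G))
    have hI : ∀ i : ℕ, 0 < i → IsZero ((R.rightDerived i).obj S.X₂) := fun i hi => DCat.Acyclic.acy_injective _ i hi
    have hepi : Epi (R.map S.g) := Preadditive.epi_of_isZero_cokernel _ (IsZero.of_epi_eq_zero (cokernel.π _)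
      (hsep _ fun M hM k => by
        obtain ⟨y, hy⟩ := hG M hM 1 le_rfl (by omega)
          ((Ext.mk₀ ((adj.homEquiv _ _).symm k)).comp hS.extClass (zero_add 1))
        obtain ⟨E, p, hp, hpy⟩ := exists_epi_killing y
        have h3 : (Ext.mk₀ (L.map p ≫ (adj.homEquiv _ _).symm k)).comp hS.extClass (zero_add 1) = 0 := by
          rw [← Ext.mk₀_comp_mk₀_assoc, ← hy, ← adjExtHom_precomp, hpy, map_zero]
        obtain ⟨l₀, hl⟩ := Ext.covariant_sequence_exact₃ _ hS _ (zero_add 1) h3
        obtain ⟨l, rfl⟩ := (Ext.mk₀_bijective _ _).2 l₀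
        rw [Ext.mk₀_comp_mk₀] at hl
        have h4 : p ≫ k = adj.homEquiv _ _ l ≫ R.map S.g := by
          rw [← Adjunction.homEquiv_naturality_right, (Ext.mk₀_bijective _ _).1 hl,
            Adjunction.homEquiv_naturality_left, Equiv.apply_symm_apply]
        rw [← cancel_epi p, comp_zero, reassoc_of% h4, cokernel.condition, comp_zero]))
    have hone : IsZero ((R.rightDerived 1).obj S.X₁) := isZero_rightDerived_one R hS (hI 1 Nat.one_pos) hepi
    rcases Nat.lt_or_ge i 2 with h | h
    · obtain rfl : i = 1 := by omega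
      exact hone
    obtain ⟨k, rfl⟩ : ∃ k, i = k + 1 := ⟨i - 1, by omega⟩
    have hRS : (S.map R).ShortExact :=
      { exact := hS.exact.map_of_mono_of_preservesKernel R hS.mono_f inferInstance
        mono_f := by
          haveI := hS.mono_f
          exact inferInstanceAs (Mono (R.map S.f))
        epi_g := hepi }
    haveI : Injective (S.map R).X₂ := Injective.injective_of_adjoint adj S.X₂
    let φ : (S.map R).map L ⟶ S :=
      { τ₁ := adj.counit.app _
        τ₂ := adj.counit.app _
        τ₃ := adj.counit.app _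
        comm₁₂ := (adj.counit.naturality S.f).symm
        comm₂₃ := (adj.counit.naturality S.g).symm }
    refine isZero_rightDerived_succ R hS k hI (by omega) (ih S.X₃ (fun M hM j hj1 hj2 x => ?_) k (by omega) (by omega))
    obtain ⟨y, hy⟩ := hG M hM (j + 1) (by omega) (by omega) (x.comp hS.extClass rfl)
    obtain ⟨y', rfl⟩ := Ext.covariant_sequence_exact₁ M hRS y (Ext.eq_zero_of_injective _) rfl
    refine ⟨y', ?_⟩
    have e : (adjExtHom.{w, w'} adj M S.X₃ j y' - x).comp hS.extClass rfl = 0 := by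
      rw [sub_eq_add_neg, Ext.add_comp, Ext.neg_comp, ← sub_eq_add_neg, sub_eq_zero, ← hy]
      exact (adjExtHom_δ hS hRS φ y').symm
    obtain ⟨w₀, hw⟩ := Ext.covariant_sequence_exact₃ _ hS _ rfl e
    obtain ⟨j', rfl⟩ : ∃ j', j = j' + 1 := ⟨j - 1, by omega⟩
    rw [← sub_eq_zero, ← hw, Ext.eq_zero_of_injective w₀, Ext.zero_comp]

end Groth.Agent.Et18.AcyclicN
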