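import Groth.Agent.Et18.AcyclicN.TestObjects
import Groth.Agent.Et18.AcyclicN.AdjExtBounded
import Groth.Agent.Et18.AcyclicComp

/-!
# `n`-acyclicity through units and higher direct images
-/

universe u

open CategoryTheory CategoryTheory.Limits CategoryTheory.Abelian AlgebraicGeometry Opposite
open Groth.Agent.EtCmp

set_option linter.all false
set_option backward.isDefEq.respectTransparency.types false
set_option backward.isDefEq.respectTransparency false
set_option backward.defeqAttrib.useBackward true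
set_option synthInstance.maxHeartbeats 400000
set_option maxHeartbeats 1000000

namespace Groth.Agent.Et18.AcyclicN

variable {X Y : Scheme.{u}} (g : X ⟶ Y) {L : Set ℕ} {n : ℕ}

theorem isAcyclicN_prj (hg : EtAcyc.IsAcyclicN g L n) (V : Y.Etale) : EtAcyc.IsAcyclicN (EtAcyc.prj g V) L n := by
  intro W
  let e := pullbackRightPullbackFstIso V.hom g W.hom
  have h : e.hom ≫ EtAcyc.prj g ((EtShriek.compEtale V.hom).obj W) = EtAcyc.prj (EtAcyc.prj g V) W :=
    pullbackRightPullbackFstIso_hom_fst V.hom g W.hom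
  rw [← h]
  exact (AcyclicComp.compN_comp_iff _ _ (AcyclicComp.compN_of_isIso e.hom L n)).2 (hg _)

variable {g}

/-- On the test objects, `f^*` is bijective on `Ext` in the range of degrees. -/
theorem bijective_mapExact_testObj (hg : EtAcyc.IsAcyclicN g L n) {F : EtCoh.Ab Y} (hF : EtAcyc.IsLTorsion L F)
    (W : Y.Etale) (q : ℕ) (hq : q ≤ n) :
    Function.Bijective fun z : Ext.{u + 1} (testObj W.hom) F q => z.mapExactFunctor (EtCoh.pull g) := by
  haveI : Etale (pullback.snd W.hom g) := MorphismProperty.pullback_snd (P := @Etale) _ _ inferInstance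
  haveI : EtShriek.JCont (pullback.snd W.hom g) := jCont _
  exact bijective_mapExact W.hom g (pullback.snd W.hom g) (EtAcyc.prj g W) (IsPullback.of_hasPullback W.hom g).flip F q
    ((hg W _ (isLTorsion_restr W.hom hF)).1 q hq)

theorem isIso_unit_of_isAcyclicN (hg : EtAcyc.IsAcyclicN g L n) {F : EtCoh.Ab Y} (hF : EtAcyc.IsLTorsion L F) :
    IsIso ((EtCoh.pullPushAdj g).unit.app F) := by
  refine isIso_of_tests _ fun W => ?_
  have h0 := bijective_mapExact_testObj hg hF W 0 (Nat.zero_le n)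
  have e : (fun k : testObj W.hom ⟶ F => k ≫ (EtCoh.pullPushAdj g).unit.app F) =
      ((EtCoh.pullPushAdj g).homEquiv _ _) ∘ fun k : testObj W.hom ⟶ F => (EtCoh.pull g).map k := by
    funext k
    show _ = (EtCoh.pullPushAdj g).homEquiv _ _ ((EtCoh.pull g).map k)
    rw [Adjunction.homEquiv_unit]
    exact (EtCoh.pullPushAdj g).unit.naturality k
  refine (congrArg Function.Bijective e).mpr ?_
  refine (Equiv.bijective _).comp ⟨fun a b hab => ?_, fun k => ?_⟩
  · apply (Ext.mk₀_bijective.{u + 1} (testObj W.hom) F).1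
    apply h0.1
    simp only [Ext.mapExactFunctor_mk₀]
    exact congrArg Ext.mk₀ hab
  · obtain ⟨z, hz⟩ := h0.2 (Ext.mk₀ k)
    obtain ⟨a, rfl⟩ := (Ext.mk₀_bijective _ _).2 z
    simp only [Ext.mapExactFunctor_mk₀] at hz
    exact ⟨a, (Ext.mk₀_bijective _ _).1 hz⟩

theorem isZero_Rpush_of_isAcyclicN (hg : EtAcyc.IsAcyclicN g L n) {F : EtCoh.Ab Y} (hF : EtAcyc.IsLTorsion L F)
    (q : ℕ) (h1 : 1 ≤ q) (hq : q ≤ n) : IsZero ((EtCoh.Rpush g q).obj ((EtCoh.pull g).obj F)) := by
  haveI : PreservesFiniteLimits (EtCoh.push g) :=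
    haveI : PreservesLimitsOfSize.{0, 0} (EtCoh.push g) := (EtCoh.pullPushAdj g).rightAdjoint_preservesLimits
    PreservesLimitsOfSize.preservesFiniteLimits _
  refine isZero_of_surjective.{u + 1, u + 1} (EtCoh.pullPushAdj g) (fun M => ∃ W : Y.Etale, M = testObj W.hom)
    (fun π h => eq_zero_of_tests π fun W k => h _ ⟨W, rfl⟩ k) n _ ?_ q h1 hq
  rintro M ⟨W, rfl⟩ i - hi x
  obtain ⟨z, hz⟩ := (bijective_mapExact_testObj hg hF W i hi).2 x
  exact ⟨z.comp (Ext.mk₀ ((EtCoh.pullPushAdj g).unit.app F)) (add_zero i),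
    (adjExtHom_unit (EtCoh.pullPushAdj g) _ F i z).trans hz⟩

theorem compN_of_unit {Z : Scheme.{u}} (h : Z ⟶ Y) (hh : ∀ F : EtCoh.Ab Y, EtAcyc.IsLTorsion L F →
    IsIso ((EtCoh.pullPushAdj h).unit.app F) ∧ ∀ q : ℕ, 1 ≤ q → q ≤ n →
      IsZero ((EtCoh.Rpush h q).obj ((EtCoh.pull h).obj F))) : EtAcyc.CompN h L n := by
  intro F hF _
  obtain ⟨hu, hR⟩ := hh F hF
  haveI : PreservesFiniteLimits (EtCoh.push h) :=
    haveI : PreservesLimitsOfSize.{0, 0} (EtCoh.push h) := (EtCoh.pullPushAdj h).rightAdjoint_preservesLimits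
    PreservesLimitsOfSize.preservesFiniteLimits _
  let φ := (EtCore.pullConst h ℤ).inv
  have key : ∀ q : ℕ, (⇑(EtCore.Hpull h F q) : EtCoh.H Y F q → _) =
      (fun y => (Ext.mk₀ φ).comp y (zero_add q)) ∘
        (adjExtHom.{u + 1, u + 1} (EtCoh.pullPushAdj h) (EtCoh.const Y ℤ) ((EtCoh.pull h).obj F) q) ∘
          fun z : Ext.{u + 1} (EtCoh.const Y ℤ) F q =>
            z.comp (Ext.mk₀ ((EtCoh.pullPushAdj h).unit.app F)) (add_zero q) := fun q => by
    funext z
    exact congrArg (fun t => (Ext.mk₀ φ).comp t (zero_add q))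
      (adjExtHom_unit (EtCoh.pullPushAdj h) _ F q z).symm
  refine ⟨fun q hq => ?_, ?_⟩
  · rw [key q]
    exact (precomp_bijective φ _ q).comp ((bijective_of_vanish (EtCoh.pullPushAdj h) _ q _
      (fun i a b => hR i a (b.trans hq))).1.comp (postcomp_bijective _ q))
  · rw [key (n + 1)]
    exact (precomp_bijective φ _ (n + 1)).1.comp ((bijective_of_vanish (EtCoh.pullPushAdj h) _ n _ hR).2.comp
      (postcomp_bijective _ (n + 1)).1)

end Groth.Agent.Et18.AcyclicN
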